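import Groth.Agent.TorHyperLib.Main
import Mathlib

/-!
# Annihilation of `Tor` over a hypersurface by partial derivatives
-/

set_option autoImplicit false
set_option linter.style.haveILetI false

universe u

open CategoryTheory TensorProduct TorDimLib MonoidalCategory KaehlerDifferential

namespace TorHyperLib

/-- A scalar which factors through a flat module kills higher `Tor`. -/
theorem smul_tor_eq_zero {R : Type u} [CommRing R] {Z W : Type u} [AddCommGroup Z] [Module R Z] [AddCommGroup W]
    [Module R W] [Module.Flat R W] (c : R) (α : Z →ₗ[R] W) (θ : W →ₗ[R] Z) (h : θ ∘ₗ α = c • LinearMap.id)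
    (N : Type u) [AddCommGroup N] [Module R N] (p : ℕ) :
    c ∈ Module.annihilator R (DRing.Tor R (p + 1) Z N) := by
  let P := projectiveResolution (ModuleCat.of R N)
  let F := (tensoringLeft (ModuleCat.{u} R)).obj (ModuleCat.of R Z)
  let K := (F.mapHomologicalComplex (ComplexShape.down ℕ)).obj P.complex
  let S := K.sc' (p + 2) (p + 1) p
  let e : DRing.Tor R (p + 1) Z N ≃ₗ[R] (LinearMap.ker S.g.hom ⧸ LinearMap.range S.moduleCatToCycles) :=
    (P.isoLeftDerivedObj F (p + 1) ≪≫ K.homologyIsoSc' (p + 2) (p + 1) p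
      (by simp only [ChainComplex.prev]; rfl) (by simp) ≪≫ S.moduleCatHomologyIso).toLinearEquiv
  rw [LinearEquiv.annihilator_eq e, Module.mem_annihilator]
  intro y
  obtain ⟨⟨z, hz⟩, rfl⟩ := Submodule.Quotient.mk_surjective _ y
  rw [← Submodule.Quotient.mk_smul, Submodule.Quotient.mk_eq_zero]
  suffices H : ∀ z : Z ⊗[R] (P.complex.X (p + 1)), (P.complex.d (p + 1) p).hom.lTensor Z z = 0 →
      ∃ w, (P.complex.d (p + 2) (p + 1)).hom.lTensor Z w = c • z by
    obtain ⟨w, hw⟩ := H z hz
    exact ⟨w, Subtype.ext hw⟩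
  intro z hz
  obtain ⟨w, hw⟩ := (exactAtSucc_of_flat_left (M := W) P p (α.rTensor _ z)).1 (by rw [comm_apply, hz, map_zero])
  refine ⟨θ.rTensor _ w, ?_⟩
  rw [comm_apply, hw, ← LinearMap.comp_apply, ← LinearMap.rTensor_comp, h, LinearMap.rTensor_smul,
    LinearMap.rTensor_id]
  rfl

section Deriv

variable {A B R : Type u} [CommRing A] [CommRing B] [CommRing R] [Algebra A B] [Algebra B R] (g : B)
  (hsurj : Function.Surjective (algebraMap B R)) (hker : RingHom.ker (algebraMap B R) = Ideal.span {g})

include hsurj hker in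
theorem der_mem_annihilator_one (D : Derivation A B B) (Z : Type u) [AddCommGroup Z] [Module R Z] [Module B Z]
    [IsScalarTower B R Z] (h : DiagLib.FD B 1 Z) (N : Type u) [AddCommGroup N] [Module R N] (r : ℕ) :
    algebraMap B R (D g) ∈ Module.annihilator R (DRing.Tor R (r + 1) Z N) := by
  let π : (Z →₀ B) →ₗ[B] Z := Finsupp.linearCombination B id
  have hπ : Function.Surjective π := Finsupp.linearCombination_id_surjective B Z
  haveI : Module.Flat B (LinearMap.ker π) :=
    (DiagLib.FD_of_exactAtSucc 0 fun Y Q p _ => exactAtSucc_shift (LinearMap.ker π).subtype π Subtype.val_injective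
      (LinearMap.exact_subtype_ker_map π) hπ Q p (DiagLib.exactAtSucc_of_FD 1 h Y Q (p + 1) (by omega)) :
      DiagLib.FD B 0 (LinearMap.ker π))
  have hgR : algebraMap B R g = 0 := algebraMap_g g hker
  have hgZ : ∀ z : Z, g • z = 0 := fun z => by rw [← IsScalarTower.algebraMap_smul R g z, hgR, zero_smul]
  let C : (Z →₀ B) →+ (Z →₀ B) := Finsupp.mapRange.addMonoidHom D.toLinearMap.toAddMonoidHom
  have hC : ∀ (b : B) (x : Z →₀ B), C (b • x) = D b • x + b • C x := fun b x => by
    ext i
    simp [C, D.leibniz]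
    ring
  let θ₀ : LinearMap.ker π →ₗ[B] Z :=
    { toFun := fun k => π (C k.1)
      map_add' := fun k k' => by simp
      map_smul' := fun b k => by
        simp only [Submodule.coe_smul, hC, map_add, map_smul, RingHom.id_apply]
        rw [LinearMap.mem_ker.1 k.2, smul_zero, zero_add] }
  let θ : R ⊗[B] LinearMap.ker π →ₗ[R] Z :=
    TensorProduct.AlgebraTensorModule.lift ((LinearMap.toSpanSingleton R (LinearMap.ker π →ₗ[B] Z) θ₀))
  let ν : (Z →₀ B) →ₗ[B] LinearMap.ker π :=
    LinearMap.codRestrict _ (g • LinearMap.id) fun x => by simp [hgZ]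
  let μ : (Z →₀ B) →ₗ[B] R ⊗[B] LinearMap.ker π := (TensorProduct.mk B R (LinearMap.ker π) 1) ∘ₗ ν
  have hμ : LinearMap.ker π ≤ LinearMap.ker μ := fun x hx =>
    (one_tmul_eq_zero_iff g hsurj hker (ν x)).2 ⟨⟨x, hx⟩, Subtype.ext rfl⟩
  let α₀ : Z →ₗ[B] R ⊗[B] LinearMap.ker π :=
    (LinearMap.ker π).liftQ μ hμ ∘ₗ (LinearMap.quotKerEquivOfSurjective π hπ).symm.toLinearMap
  have hα₀ : ∀ x, α₀ (π x) = (1 : R) ⊗ₜ[B] ν x := fun x => by
    show (LinearMap.ker π).liftQ μ hμ ((LinearMap.quotKerEquivOfSurjective π hπ).symm (π x)) = _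
    rw [show (LinearMap.quotKerEquivOfSurjective π hπ).symm (π x) = Submodule.Quotient.mk x from
      (LinearEquiv.symm_apply_eq _).2 rfl]
    rfl
  refine smul_tor_eq_zero _ (LinearMap.extendScalarsOfSurjective hsurj α₀) θ ?_ N r
  refine LinearMap.ext fun z => ?_
  obtain ⟨x, rfl⟩ := hπ z
  show θ (α₀ (π x)) = algebraMap B R (D g) • π x
  rw [hα₀, IsScalarTower.algebraMap_smul]
  simp [θ, θ₀, ν, hC, hgZ]

variable (hg : IsSMulRegular B g)

include hsurj hker hg in
theorem der_mem_annihilator_succ (D : Derivation A B B) : ∀ (k : ℕ) (M : Type u) [AddCommGroup M] [Module R M]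
    [Module B M] [IsScalarTower B R M], DiagLib.FD B (k + 1) M → ∀ (N : Type u) [AddCommGroup N] [Module R N]
    (j : ℕ), algebraMap B R (D g) ∈ Module.annihilator R (DRing.Tor R (j + k + 1) M N) := by
  intro k
  induction k with
  | zero => exact fun M _ _ _ _ h N _ _ j => der_mem_annihilator_one g hsurj hker D M h N j
  | succ k ih =>
    intro M _ _ _ _ h N _ _ j
    let π : (M →₀ R) →ₗ[R] M := Finsupp.linearCombination R id
    have hπ : Function.Surjective π := Finsupp.linearCombination_id_surjective R M
    have hK : DiagLib.FD B (k + 1) (LinearMap.ker π) :=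
      DiagLib.FD_of_exactAtSucc (k + 1) fun Z Q p hp =>
        exactAtSucc_kernel ((LinearMap.ker π).subtype.restrictScalars B) (π.restrictScalars B) Subtype.val_injective
          (LinearMap.exact_subtype_ker_map π) hπ Q p
          (DiagLib.exactAtSucc_of_FD 1 (fd_free g hg hsurj hker M) Z Q p (by omega))
          (DiagLib.exactAtSucc_of_FD (k + 1 + 1) h Z Q (p + 1) (by omega))
    obtain ⟨e⟩ := TorShiftLib.nonempty_shift_succ (X₁ := LinearMap.ker π) (LinearMap.ker π).subtype π
      Subtype.val_injective hπ (LinearMap.exact_subtype_ker_map π) N (j + k)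
    rw [show j + (k + 1) + 1 = j + k + 2 from by omega, LinearEquiv.annihilator_eq e]
    exact ih (LinearMap.ker π) hK N j

include hsurj hker hg in
/-- The partial derivatives of `g` kill `Tor` in degrees at least the flat dimension over `B`. -/
theorem der_mem_annihilator (D : Derivation A B B) (d : ℕ) (M : Type u) [AddCommGroup M] [Module R M] [Module B M]
    [IsScalarTower B R M] (h : DiagLib.FD B d M) (N : Type u) [AddCommGroup N] [Module R N] (q : ℕ) (hq : d ≤ q) :
    algebraMap B R (D g) ∈ Module.annihilator R (DRing.Tor R q M N) := by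
  cases d with
  | succ k =>
    obtain ⟨j, rfl⟩ : ∃ j, q = j + k + 1 := ⟨q - (k + 1), by omega⟩
    exact der_mem_annihilator_succ g hsurj hker hg D k M h N j
  | zero =>
    haveI : Module.Flat B M := h
    haveI : Subsingleton M := by
      refine subsingleton_of_forall_eq 0 fun z => ?_
      have hi : Function.Injective ((g • (LinearMap.id : B →ₗ[B] B)).rTensor M) :=
        Module.Flat.rTensor_preserves_injective_linearMap _ fun a b hab => hg (by simpa using hab)
      have hz : g • z = 0 := by
        rw [← IsScalarTower.algebraMap_smul R g z, algebraMap_g g hker, zero_smul]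
      have := @hi ((1 : B) ⊗ₜ z) 0 ((TensorProduct.lid B M).injective (by simpa using hz))
      simpa using congrArg (TensorProduct.lid B M) this
    cases q with
    | zero =>
      obtain ⟨e⟩ := TorShiftLib.nonempty_tor_zero (R := R) N M
      rw [LinearEquiv.annihilator_eq e, Module.mem_annihilator]
      exact fun y => Subsingleton.elim _ _
    | succ i =>
      haveI : Subsingleton (DRing.Tor R (i + 1) M N) :=
        subsingleton_tor_of_exactAtSucc (projectiveResolution _) i (exactAtSucc_of_flat_left _ i)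
      rw [Module.mem_annihilator]
      exact fun y => Subsingleton.elim _ _

end Deriv

section Ideal

variable (A : Type u) [CommRing A] {B R : Type u} [CommRing B] [CommRing R] [Algebra A B] [Algebra B R] (g : B)

/-- The ideal of the partial derivatives of `g`. -/
def jacIdeal : Ideal R :=
  Ideal.span (Set.range fun ξ : Ω[B⁄A] →ₗ[B] B => algebraMap B R (ξ (KaehlerDifferential.D A B g)))

variable [Algebra A R] [IsScalarTower A B R]

/-- In a ring where the partial derivatives vanish, anything killing the top differential forms is zero. -/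
theorem map_eq_zero_of_mem_annihilator [Module.Projective B Ω[B⁄A]] [Module.Finite B Ω[B⁄A]] (n : ℕ)
    (hn : ∀ p : PrimeSpectrum B, Module.rankAtStalk (Ω[B⁄A]) p = n) (hsurj : Function.Surjective (algebraMap B R))
    (hker : RingHom.ker (algebraMap B R) = Ideal.span {g}) (L : Type u) [CommRing L] [IsLocalRing L]
    [Algebra B L] [Algebra R L] [IsScalarTower B R L]
    (hden : ∀ l : L, ∃ (s : R) (r : R), IsUnit (algebraMap R L s) ∧ s • l = algebraMap R L r)
    (hJ : ∀ x ∈ jacIdeal A (R := R) g, algebraMap R L x = 0)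
    {c : R} (hc : c ∈ (⋀[R]^n (Ω[R⁄A])).annihilator) : algebraMap R L c = 0 := by
  classical
  letI : Algebra A L := Algebra.compHom L (algebraMap A B)
  haveI : IsScalarTower A B L := IsScalarTower.of_algebraMap_eq fun _ => rfl
  haveI : IsScalarTower A R L := IsScalarTower.of_algebraMap_eq fun a => by
    rw [IsScalarTower.algebraMap_apply A B R, ← IsScalarTower.algebraMap_apply B R L]
    rfl
  let V := L ⊗[B] Ω[B⁄A]
  have hgR : algebraMap B R g = 0 := algebraMap_g g hker
  have hdg : (1 : L) ⊗ₜ[B] KaehlerDifferential.D A B g = 0 := by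
    obtain ⟨s, hs⟩ := Module.Projective.out (R := B) (P := Ω[B⁄A])
    have hx : KaehlerDifferential.D A B g =
        ∑ i ∈ (s (KaehlerDifferential.D A B g)).support, (s (KaehlerDifferential.D A B g)) i • i := by
      conv_lhs => rw [← hs (KaehlerDifferential.D A B g)]
      rfl
    rw [hx, TensorProduct.tmul_sum]
    refine Finset.sum_eq_zero fun i _ => ?_
    rw [← TensorProduct.smul_tmul, ← Algebra.algebraMap_eq_smul_one, IsScalarTower.algebraMap_apply B R L,
      hJ (algebraMap B R ((s (KaehlerDifferential.D A B g)) i)) (Ideal.subset_span ⟨(Finsupp.lapply i) ∘ₗ s, rfl⟩),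
      TensorProduct.zero_tmul]
  let d₀ : B →ₗ[A] V :=
    { toFun := fun b => (1 : L) ⊗ₜ KaehlerDifferential.D A B b
      map_add' := fun a b => by simp [TensorProduct.tmul_add]
      map_smul' := fun a b => by
        rw [RingHom.id_apply, Derivation.map_smul, ← IsScalarTower.algebraMap_smul B a (KaehlerDifferential.D A B b),
          TensorProduct.tmul_smul, IsScalarTower.algebraMap_smul] }
  have hRV : ∀ (b : B) (v : V), algebraMap B R b • v = b • v := fun b v => by
    rw [← IsScalarTower.algebraMap_smul L (algebraMap B R b) v, ← IsScalarTower.algebraMap_apply B R L,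
      IsScalarTower.algebraMap_smul]
  haveI : IsScalarTower A R V := IsScalarTower.of_algebraMap_smul fun a v => by
    rw [IsScalarTower.algebraMap_apply A B R, hRV, IsScalarTower.algebraMap_smul]
  have hd : LinearMap.ker (IsScalarTower.toAlgHom A B R).toLinearMap ≤ LinearMap.ker d₀ := by
    intro b hb
    have hb' : b ∈ Ideal.span {g} := hker ▸ (hb : algebraMap B R b = 0)
    obtain ⟨b', rfl⟩ := Ideal.mem_span_singleton'.1 hb'
    show (1 : L) ⊗ₜ[B] KaehlerDifferential.D A B (b' * g) = 0
    have hgL : algebraMap B L g = 0 := by rw [IsScalarTower.algebraMap_apply B R L, hgR, map_zero]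
    rw [Derivation.leibniz, TensorProduct.tmul_add, TensorProduct.tmul_smul, hdg, smul_zero, zero_add,
      ← TensorProduct.smul_tmul, ← Algebra.algebraMap_eq_smul_one, hgL, TensorProduct.zero_tmul]
  let eR := LinearMap.quotKerEquivOfSurjective (IsScalarTower.toAlgHom A B R).toLinearMap hsurj
  let d₁ : R →ₗ[A] V := (LinearMap.ker (IsScalarTower.toAlgHom A B R).toLinearMap).liftQ d₀ hd ∘ₗ eR.symm.toLinearMap
  have hd₁ : ∀ b, d₁ (algebraMap B R b) = (1 : L) ⊗ₜ[B] KaehlerDifferential.D A B b := fun b => by
    show Submodule.liftQ _ d₀ hd (eR.symm (algebraMap B R b)) = _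
    rw [show eR.symm (algebraMap B R b) = Submodule.Quotient.mk b from (LinearEquiv.symm_apply_eq _).2 rfl]
    rfl
  let δ : Derivation A R V :=
    Derivation.mk' d₁ fun x y => by
      obtain ⟨a, rfl⟩ := hsurj x
      obtain ⟨b, rfl⟩ := hsurj y
      rw [← map_mul, hd₁, hd₁, hd₁, hRV, hRV, Derivation.leibniz, TensorProduct.tmul_add, TensorProduct.tmul_smul,
        TensorProduct.tmul_smul]
  let f : Ω[R⁄A] →ₗ[R] V := δ.liftKaehlerDifferential
  have hf : ∀ ω : Ω[B⁄A], (1 : L) ⊗ₜ[B] ω ∈ LinearMap.range f := by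
    intro ω
    have hω : ω ∈ Submodule.span B (Set.range (KaehlerDifferential.D A B)) := by
      rw [KaehlerDifferential.span_range_derivation]
      trivial
    induction hω using Submodule.span_induction with
    | mem x hx =>
      obtain ⟨b, rfl⟩ := hx
      exact ⟨KaehlerDifferential.D A R (algebraMap B R b), by
        rw [Derivation.liftKaehlerDifferential_comp_D]; exact hd₁ b⟩
    | zero => exact ⟨0, by simp⟩
    | add x y _ _ hx hy => rw [TensorProduct.tmul_add]; exact add_mem hx hy
    | smul b x _ hx => rw [TensorProduct.tmul_smul, ← hRV]; exact Submodule.smul_mem _ _ hx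
  have hdenV : ∀ v : V, ∃ s : R, IsUnit (algebraMap R L s) ∧ algebraMap R L s • v ∈ LinearMap.range f := by
    intro v
    induction v using TensorProduct.induction_on with
    | zero => exact ⟨1, by simp, by simp⟩
    | tmul l ω =>
      obtain ⟨s, r, hs, hr⟩ := hden l
      refine ⟨s, hs, ?_⟩
      rw [TensorProduct.smul_tmul', smul_eq_mul, ← Algebra.smul_def, hr,
        ← mul_one (algebraMap R L r), ← smul_eq_mul, ← TensorProduct.smul_tmul']
      rw [IsScalarTower.algebraMap_smul]
      exact Submodule.smul_mem _ r (hf ω)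
    | add v w hv hw =>
      obtain ⟨s, hs, hv⟩ := hv
      obtain ⟨t, ht, hw⟩ := hw
      refine ⟨s * t, by rw [map_mul]; exact hs.mul ht, ?_⟩
      rw [map_mul, smul_add]
      refine add_mem ?_ ?_
      · rw [mul_comm, mul_smul]
        rw [IsScalarTower.algebraMap_smul]
        exact Submodule.smul_mem _ t hv
      · rw [mul_smul]
        rw [IsScalarTower.algebraMap_smul]
        exact Submodule.smul_mem _ s hw
  haveI : Module.Free L V := Module.free_of_flat_of_isLocalRing
  have hrank : Module.finrank L V = n := by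
    obtain ⟨P⟩ := (inferInstance : Nonempty (PrimeSpectrum L))
    have h1 : Module.rankAtStalk (R := L) V P = n := by rw [Module.rankAtStalk_baseChange, hn]
    rw [congrFun (Module.rankAtStalk_eq_finrank_of_free (R := L) (M := V)) P] at h1
    simpa using h1
  let bV : Module.Basis (Fin n) L V := Module.finBasisOfFinrankEq L V hrank
  choose s hs ω hω using fun i => hdenV (bV i)
  let F : ⋀[R]^n (Ω[R⁄A]) →ₗ[R] L :=
    exteriorPower.alternatingMapLinearEquiv
      (({ toMultilinearMap := bV.det.toMultilinearMap.restrictScalars R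
          map_eq_zero_of_eq' := bV.det.map_eq_zero_of_eq' } : AlternatingMap R V L (Fin n)).compLinearMap f)
  have h0 : c • exteriorPower.ιMulti R n ω = 0 :=
    Subtype.ext (Submodule.mem_annihilator.1 hc _ (exteriorPower.ιMulti R n ω).2)
  have h1 := congrArg F h0
  rw [map_smul, map_zero, exteriorPower.alternatingMapLinearEquiv_apply_ιMulti] at h1
  change c • bV.det (fun i => f (ω i)) = 0 at h1
  rw [show (fun i => f (ω i)) = fun i => algebraMap R L (s i) • bV i from funext hω] at h1
  rw [AlternatingMap.map_smul_univ, Module.Basis.det_self, smul_eq_mul, mul_one, Algebra.smul_def] at h1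
  exact ((IsUnit.prod_univ_iff.2 hs).mul_left_eq_zero).1 h1

theorem annihilator_le_jacIdeal [Module.Projective B Ω[B⁄A]] [Module.Finite B Ω[B⁄A]] (n : ℕ)
    (hn : ∀ p : PrimeSpectrum B, Module.rankAtStalk (Ω[B⁄A]) p = n) (hsurj : Function.Surjective (algebraMap B R))
    (hker : RingHom.ker (algebraMap B R) = Ideal.span {g}) :
    (⋀[R]^n (Ω[R⁄A])).annihilator ≤ jacIdeal A g := by
  intro c hc
  rw [← Ideal.Quotient.eq_zero_iff_mem]
  refine eq_zero_of_localization _ fun P hP => ?_
  let L := Localization.AtPrime P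
  refine map_eq_zero_of_mem_annihilator A g n hn hsurj hker L (fun l => ?_) (fun x hx => ?_) hc
  · obtain ⟨r, s, rfl⟩ := IsLocalization.exists_mk'_eq P.primeCompl l
    obtain ⟨r', rfl⟩ := Ideal.Quotient.mk_surjective r
    obtain ⟨s', hs'⟩ := Ideal.Quotient.mk_surjective (s : R ⧸ jacIdeal A (R := R) g)
    refine ⟨s', r', ?_, ?_⟩
    · show IsUnit (algebraMap (R ⧸ jacIdeal A (R := R) g) L (Ideal.Quotient.mk _ s'))
      rw [hs']
      exact IsLocalization.map_units L s
    · rw [Algebra.smul_def]
      show algebraMap (R ⧸ jacIdeal A (R := R) g) L (Ideal.Quotient.mk _ s') * _ = _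
      rw [hs', IsLocalization.mk'_spec']
      rfl
  · show algebraMap (R ⧸ jacIdeal A (R := R) g) L (Ideal.Quotient.mk _ x) = 0
    rw [Ideal.Quotient.eq_zero_iff_mem.2 hx, map_zero]

end Ideal

end TorHyperLib
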