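import Groth.Agent.TorHyperLib.Smooth
import Groth.Agent.TorShiftLib.Basic
import Groth.Agent.TorDimLib.FlatVanish
import Mathlib

/-!
# Periodicity of `Tor` over a hypersurface
-/

set_option autoImplicit false
set_option linter.style.haveILetI false

universe u

open CategoryTheory TensorProduct TorDimLib

namespace TorHyperLib

/-- The kernel of a surjection from a module which is exact in degree `p`. -/
theorem exactAtSucc_kernel {A : Type u} [CommRing A] {K F Q : Type u} [AddCommGroup K] [Module A K]
    [AddCommGroup F] [Module A F] [AddCommGroup Q] [Module A Q] (ι : K →ₗ[A] F) (π : F →ₗ[A] Q)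
    (hι : Function.Injective ι) (hex : Function.Exact ι π) (hπ : Function.Surjective π) {Z : ModuleCat.{u} A}
    (P : ProjectiveResolution Z) (p : ℕ) (hF : ExactAtSucc F P p) (hQ : ExactAtSucc Q P (p + 1)) :
    ExactAtSucc K P p := by
  intro z
  refine ⟨fun hz => ?_, ?_⟩
  · let D2 := (P.complex.d (p + 2) (p + 1)).hom
    let D3 := (P.complex.d (p + 3) (p + 2)).hom
    have := flat_X P (p + 1)
    have hinj : Function.Injective (ι.rTensor (P.complex.X (p + 1))) :=
      Module.Flat.rTensor_preserves_injective_linearMap ι hι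
    obtain ⟨w, hw⟩ := (hF (ι.rTensor _ z)).1 (by rw [comm_apply, hz, map_zero])
    have h0 : D2.lTensor Q (π.rTensor _ w) = 0 := by
      rw [comm_apply, hw, ← LinearMap.comp_apply, ← LinearMap.rTensor_comp, hex.linearMap_comp_eq_zero]
      simp
    obtain ⟨v, hv⟩ := (hQ (π.rTensor _ w)).1 h0
    obtain ⟨v', rfl⟩ := LinearMap.rTensor_surjective (P.complex.X (p + 3)) hπ v
    obtain ⟨u', hu'⟩ := (rTensor_exact (P.complex.X (p + 2)) hex hπ (w - D3.lTensor F v')).1 (by
      rw [map_sub, ← comm_apply, hv, sub_self])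
    refine ⟨u', hinj ?_⟩
    rw [← comm_apply, hu', map_sub, show D2.lTensor F (D3.lTensor F v') = 0 from d_d P F _ _ _ v', sub_zero, hw]
  · rintro ⟨w, rfl⟩
    exact d_d P K _ _ _ w

section Hyper

variable {B R : Type u} [CommRing B] [CommRing R] [Algebra B R] (g : B)

theorem exists_one_tmul (hsurj : Function.Surjective (algebraMap B R)) {F : Type u} [AddCommGroup F] [Module B F]
    (y : R ⊗[B] F) : ∃ x : F, (1 : R) ⊗ₜ[B] x = y := by
  induction y using TensorProduct.induction_on with
  | zero => exact ⟨0, by simp⟩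
  | tmul r x =>
    obtain ⟨b, rfl⟩ := hsurj r
    exact ⟨b • x, by rw [← TensorProduct.smul_tmul, Algebra.algebraMap_eq_smul_one]⟩
  | add y y' h h' =>
    obtain ⟨x, rfl⟩ := h
    obtain ⟨x', rfl⟩ := h'
    exact ⟨x + x', TensorProduct.tmul_add _ _ _⟩

theorem one_tmul_eq_zero_iff (hsurj : Function.Surjective (algebraMap B R))
    (hker : RingHom.ker (algebraMap B R) = Ideal.span {g}) {F : Type u} [AddCommGroup F] [Module B F] (x : F) :
    (1 : R) ⊗ₜ[B] x = 0 ↔ ∃ y : F, g • y = x := by
  constructor
  · intro h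
    have hex : Function.Exact (g • (LinearMap.id : B →ₗ[B] B)) (Algebra.linearMap B R) := by
      intro b
      show algebraMap B R b = 0 ↔ _
      rw [← RingHom.mem_ker, hker, Ideal.mem_span_singleton]
      constructor
      · rintro ⟨c, rfl⟩
        exact ⟨c, by simp⟩
      · rintro ⟨c, rfl⟩
        exact ⟨c, by simp⟩
    obtain ⟨t, ht⟩ := (rTensor_exact F hex hsurj ((1 : B) ⊗ₜ[B] x)).1 (by simpa using h)
    refine ⟨TensorProduct.lid B F t, ?_⟩
    have h2 := congrArg (TensorProduct.lid B F) ht
    rw [TensorProduct.lid_tmul, one_smul] at h2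
    rw [← h2]
    clear ht h2
    induction t using TensorProduct.induction_on with
    | zero => simp
    | tmul b y => simp [mul_smul]
    | add s s' hs hs' => simp only [map_add, smul_add, hs, hs']
  · rintro ⟨y, rfl⟩
    have : algebraMap B R g = 0 := by
      rw [← RingHom.mem_ker, hker]
      exact Ideal.mem_span_singleton_self g
    rw [← TensorProduct.smul_tmul, ← Algebra.algebraMap_eq_smul_one, this, TensorProduct.zero_tmul]

theorem algebraMap_g (hker : RingHom.ker (algebraMap B R) = Ideal.span {g}) : algebraMap B R g = 0 := by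
  rw [← RingHom.mem_ker, hker]
  exact Ideal.mem_span_singleton_self g

/-- A free module over the hypersurface has flat dimension at most one. -/
theorem fd_free (hg : IsSMulRegular B g) (hsurj : Function.Surjective (algebraMap B R))
    (hker : RingHom.ker (algebraMap B R) = Ideal.span {g}) (ι : Type u) : DiagLib.FD B 1 (ι →₀ R) := by
  let π : (ι →₀ B) →ₗ[B] (ι →₀ R) := Finsupp.mapRange.linearMap (Algebra.linearMap B R)
  have hπ : Function.Surjective π := Finsupp.mapRange_surjective _ (map_zero _) hsurj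
  refine ⟨ι →₀ B, _, _, π, inferInstance, hπ, ?_⟩
  let μ : (ι →₀ B) →ₗ[B] (ι →₀ B) := g • LinearMap.id
  have hμ : Function.Injective μ := by
    intro x y h
    ext i
    exact hg (by simpa [μ] using DFunLike.congr_fun h i)
  have hr : LinearMap.range μ = LinearMap.ker π := by
    apply le_antisymm
    · rintro _ ⟨x, rfl⟩
      rw [LinearMap.mem_ker]
      ext i
      simp [μ, π, Algebra.smul_def, algebraMap_g g hker]
    · intro x hx
      rw [LinearMap.mem_ker] at hx
      have h : ∀ i, ∃ c, g * c = x i := fun i => by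
        have h1 : algebraMap B R (x i) = 0 := by simpa [π] using DFunLike.congr_fun hx i
        rw [← RingHom.mem_ker, hker, Ideal.mem_span_singleton] at h1
        obtain ⟨c, hc⟩ := h1
        exact ⟨c, hc.symm⟩
      choose c hc using h
      refine ⟨Finsupp.onFinset x.support c fun i hi => ?_, ?_⟩
      · rw [Finsupp.mem_support_iff]
        intro h0
        refine hi (hg ?_)
        simp [hc, h0]
      · ext i
        simp [μ, hc]
  exact Module.Flat.of_linearEquiv ((LinearEquiv.ofInjective μ hμ).trans (LinearEquiv.ofEq _ _ hr)).symm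

variable (hg : IsSMulRegular B g) (hsurj : Function.Surjective (algebraMap B R))
  (hker : RingHom.ker (algebraMap B R) = Ideal.span {g})

include hg hsurj hker in
theorem periodic_zero (Z : Type u) [AddCommGroup Z] [Module R Z] [Module B Z] [IsScalarTower B R Z]
    (h : DiagLib.FD B 1 Z) (N : Type u) [AddCommGroup N] [Module R N] (j : ℕ) :
    Nonempty (DRing.Tor R (j + 3) Z N ≃ₗ[R] DRing.Tor R (j + 1) Z N) := by
  obtain ⟨F, _, _, π, hF, hπ, hK⟩ := h
  haveI : Module.Flat B F := hF
  haveI : Module.Flat B (LinearMap.ker π) := hK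
  have hgZ : ∀ z : Z, g • z = 0 := fun z => by
    rw [← IsScalarTower.algebraMap_smul R g z, algebraMap_g g hker, zero_smul]
  have hgF : IsSMulRegular F g := by
    intro x y hxy
    have hi : Function.Injective ((g • (LinearMap.id : B →ₗ[B] B)).rTensor F) :=
      Module.Flat.rTensor_preserves_injective_linearMap _ fun a b hab => hg (by simpa using hab)
    have := @hi ((1 : B) ⊗ₜ x) ((1 : B) ⊗ₜ y) ((TensorProduct.lid B F).injective (by simpa using hxy))
    simpa using congrArg (TensorProduct.lid B F) this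
  let ν : F →ₗ[B] LinearMap.ker π :=
    LinearMap.codRestrict _ (g • LinearMap.id) fun x => by simp [hgZ]
  let μ : F →ₗ[B] R ⊗[B] LinearMap.ker π := (TensorProduct.mk B R (LinearMap.ker π) 1) ∘ₗ ν
  have hμ : LinearMap.ker π ≤ LinearMap.ker μ := fun x hx =>
    (one_tmul_eq_zero_iff g hsurj hker (ν x)).2 ⟨⟨x, hx⟩, Subtype.ext rfl⟩
  let α₀ : Z →ₗ[B] R ⊗[B] LinearMap.ker π :=
    (LinearMap.ker π).liftQ μ hμ ∘ₗ (LinearMap.quotKerEquivOfSurjective π hπ).symm.toLinearMap
  have hα₀ : ∀ x, α₀ (π x) = (1 : R) ⊗ₜ[B] ν x := fun x => by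
    show (LinearMap.ker π).liftQ μ hμ ((LinearMap.quotKerEquivOfSurjective π hπ).symm (π x)) = _
    rw [show (LinearMap.quotKerEquivOfSurjective π hπ).symm (π x) = Submodule.Quotient.mk x from
      (LinearEquiv.symm_apply_eq _).2 rfl]
    rfl
  let α : Z →ₗ[R] R ⊗[B] LinearMap.ker π := LinearMap.extendScalarsOfSurjective hsurj α₀
  let β : R ⊗[B] LinearMap.ker π →ₗ[R] R ⊗[B] F := (LinearMap.ker π).subtype.baseChange R
  let γ : R ⊗[B] F →ₗ[R] Z :=
    TensorProduct.AlgebraTensorModule.lift ((LinearMap.toSpanSingleton R (F →ₗ[B] Z) π))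
  have hγ : ∀ r x, γ (r ⊗ₜ x) = r • π x := fun r x => by simp [γ]
  have hγs : Function.Surjective γ := fun z => by
    obtain ⟨x, rfl⟩ := hπ z
    exact ⟨(1 : R) ⊗ₜ x, by rw [hγ, one_smul]⟩
  have hβγ : Function.Exact β γ := by
    intro y
    constructor
    · intro hy
      obtain ⟨x, rfl⟩ := exists_one_tmul hsurj y
      rw [hγ, one_smul] at hy
      exact ⟨(1 : R) ⊗ₜ ⟨x, hy⟩, by simp [β]⟩
    · rintro ⟨w, rfl⟩
      obtain ⟨k, rfl⟩ := exists_one_tmul hsurj w
      simp [β, hγ]
  have hαi : Function.Injective α := by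
    rw [injective_iff_map_eq_zero]
    intro z hz
    obtain ⟨x, rfl⟩ := hπ z
    obtain ⟨k, hk⟩ := (one_tmul_eq_zero_iff g hsurj hker (ν x)).1 ((hα₀ x).symm.trans hz)
    have : (k : F) = x := hgF (by simpa [ν] using congrArg Subtype.val hk)
    rw [← this]
    exact k.2
  have hαβ : Function.Exact α β := by
    intro y
    constructor
    · intro hy
      obtain ⟨k, rfl⟩ := exists_one_tmul hsurj y
      obtain ⟨x, hx⟩ := (one_tmul_eq_zero_iff g hsurj hker (k : F)).1 (by simpa [β] using hy)
      refine ⟨π x, ?_⟩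
      show α₀ (π x) = _
      rw [hα₀]
      congr 1
      exact Subtype.ext hx
    · rintro ⟨z, rfl⟩
      obtain ⟨x, rfl⟩ := hπ z
      show β (α₀ (π x)) = 0
      rw [hα₀]
      simp only [β, LinearMap.baseChange_tmul]
      exact (one_tmul_eq_zero_iff g hsurj hker _).2 ⟨x, rfl⟩
  let I := LinearMap.ker γ
  let β' : R ⊗[B] LinearMap.ker π →ₗ[R] I := LinearMap.codRestrict I β fun w => (hβγ (β w)).2 ⟨w, rfl⟩
  have hβ's : Function.Surjective β' := fun y => by
    obtain ⟨w, hw⟩ := (hβγ y.1).1 y.2
    exact ⟨w, Subtype.ext hw⟩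
  have hαβ' : Function.Exact α β' := fun y => by
    rw [← hαβ y]
    exact ⟨fun h => congrArg Subtype.val h, fun h => Subtype.ext h⟩
  obtain ⟨e₁⟩ := TorShiftLib.nonempty_shift_succ (X₁ := I) I.subtype γ Subtype.val_injective hγs
    (LinearMap.exact_subtype_ker_map γ) N (j + 1)
  obtain ⟨e₂⟩ := TorShiftLib.nonempty_shift_succ (X₃ := I) α β' hαi hβ's hαβ' N j
  exact ⟨e₁.trans e₂⟩

include hg hsurj hker in
theorem periodic : ∀ (k : ℕ) (M : Type u) [AddCommGroup M] [Module R M] [Module B M] [IsScalarTower B R M],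
    DiagLib.FD B (k + 1) M → ∀ (N : Type u) [AddCommGroup N] [Module R N] (j : ℕ),
      Nonempty (DRing.Tor R (j + k + 3) M N ≃ₗ[R] DRing.Tor R (j + k + 1) M N) := by
  intro k
  induction k with
  | zero => exact fun M _ _ _ _ h N _ _ j => periodic_zero g hg hsurj hker M h N j
  | succ k ih =>
    intro M _ _ _ _ h N _ _ j
    let π : (M →₀ R) →ₗ[R] M := Finsupp.linearCombination R id
    have hπ : Function.Surjective π := Finsupp.linearCombination_id_surjective R M
    have hK : DiagLib.FD B (k + 1) (LinearMap.ker π) :=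
      DiagLib.FD_of_exactAtSucc (k + 1) fun Z Q p hp =>
        exactAtSucc_kernel ((LinearMap.ker π).subtype.restrictScalars B) (π.restrictScalars B) Subtype.val_injective
          (LinearMap.exact_subtype_ker_map π) hπ Q p
          (DiagLib.exactAtSucc_of_FD 1 (fd_free g hg hsurj hker M) Z Q p (by omega))
          (DiagLib.exactAtSucc_of_FD (k + 1 + 1) h Z Q (p + 1) (by omega))
    obtain ⟨e⟩ := ih (LinearMap.ker π) hK N j
    obtain ⟨e₁⟩ := TorShiftLib.nonempty_shift_succ (X₁ := LinearMap.ker π) (LinearMap.ker π).subtype π Subtype.val_injective hπ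
      (LinearMap.exact_subtype_ker_map π) N (j + k + 2)
    obtain ⟨e₂⟩ := TorShiftLib.nonempty_shift_succ (X₁ := LinearMap.ker π) (LinearMap.ker π).subtype π Subtype.val_injective hπ
      (LinearMap.exact_subtype_ker_map π) N (j + k)
    exact ⟨e₁.trans (e.trans e₂.symm)⟩

include hg hsurj hker in
theorem tor_periodic (d : ℕ) (M : Type u) [AddCommGroup M] [Module R M] [Module B M] [IsScalarTower B R M]
    (h : DiagLib.FD B d M) (N : Type u) [AddCommGroup N] [Module R N] (q : ℕ) (hq : d + 2 ≤ q) :
    Nonempty (DRing.Tor R q M N ≃ₗ[R] DRing.Tor R (q - 2) M N) := by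
  cases d with
  | succ k =>
    obtain ⟨j, rfl⟩ : ∃ j, q = j + k + 3 := ⟨q - (k + 3), by omega⟩
    exact periodic g hg hsurj hker k M h N j
  | zero =>
    haveI : Module.Flat B M := h
    haveI : Subsingleton M := by
      refine subsingleton_of_forall_eq 0 fun z => ?_
      have hi : Function.Injective ((g • (LinearMap.id : B →ₗ[B] B)).rTensor M) :=
        Module.Flat.rTensor_preserves_injective_linearMap _ fun a b hab => hg (by simpa using hab)
      have hz : g • z = 0 := by
        rw [← IsScalarTower.algebraMap_smul R g z, algebraMap_g g hker, zero_smul]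
      have := @hi ((1 : B) ⊗ₜ z) 0 ((TensorProduct.lid B M).injective (by simpa using hz))
      simpa using congrArg (TensorProduct.lid B M) this
    haveI : Subsingleton (TensorProduct R M N) := inferInstance
    have h0 : ∀ i, Subsingleton (DRing.Tor R i M N) := fun i => by
      cases i with
      | zero =>
        obtain ⟨e⟩ := TorShiftLib.nonempty_tor_zero (R := R) N M
        exact e.toEquiv.subsingleton
      | succ i =>
        exact subsingleton_tor_of_exactAtSucc (projectiveResolution _) i (exactAtSucc_of_flat_left _ i)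
    haveI := h0 q
    haveI := h0 (q - 2)
    exact ⟨LinearEquiv.ofSubsingleton _ _⟩

end Hyper

end TorHyperLib
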