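import Groth.Agent.PerfModLib.Poly
import Groth.Agent.PerfModLib.Trans
import Groth.Agent.PerfTorLib.Basic
import Mathlib

/-!
# Flat dimension over a smooth algebra
-/

set_option autoImplicit false
set_option linter.style.haveILetI false

universe u

open CategoryTheory TensorProduct TorDimLib

namespace TorHyperLib

theorem fd_retract {A : Type u} [CommRing A] {K U : Type u} [AddCommGroup K] [Module A K] [AddCommGroup U]
    [Module A U] (s : K →ₗ[A] U) (r : U →ₗ[A] K) (hrs : r ∘ₗ s = LinearMap.id) {n : ℕ} (h : DiagLib.FD A n U) :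
    DiagLib.FD A n K :=
  DiagLib.FD_of_exactAtSucc n fun N Q p hp =>
    PerfTorLib.exactAtSucc_retract s r hrs Q p (DiagLib.exactAtSucc_of_FD n h N Q p hp)

theorem fd_mono {A : Type u} [CommRing A] {M : Type u} [AddCommGroup M] [Module A M] {n m : ℕ} (hnm : n ≤ m)
    (h : DiagLib.FD A n M) : DiagLib.FD A m M :=
  DiagLib.FD_of_exactAtSucc m fun N Q p hp => DiagLib.exactAtSucc_of_FD n h N Q p (hnm.trans hp)

/-- A module over an étale algebra has flat dimension at most that over the base. -/
theorem fd_of_etale {P B : Type u} [CommRing P] [CommRing B] [Algebra P B] [Algebra.Etale P B]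
    (M : Type u) [AddCommGroup M] [Module P M] [Module B M] [IsScalarTower P B M] {n : ℕ}
    (h : DiagLib.FD P n M) : DiagLib.FD B n M := by
  haveI : Module.Flat P B := inferInstance
  exact fd_retract (Algebra.FormallyUnramified.sec P B M) _ (Algebra.FormallyUnramified.comp_sec P B M)
    (PerfModLib.fd_baseChange (B := B) n M h)

/-- Modules over a standard smooth algebra of relative dimension `n`. -/
theorem fd_standardSmooth (A B : Type u) [CommRing A] [CommRing B] [Algebra A B] (n : ℕ)
    [Algebra.IsStandardSmoothOfRelativeDimension n A B] (M : Type u) [AddCommGroup M] [Module A M] [Module B M]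
    [IsScalarTower A B M] {d : ℕ} (h : DiagLib.FD A d M) : DiagLib.FD B (d + n) M := by
  obtain ⟨g, hg⟩ := Algebra.IsStandardSmoothOfRelativeDimension.exists_etale_mvPolynomial A B (n := n)
  letI : Algebra (MvPolynomial (Fin n) A) B := g.toRingHom.toAlgebra
  letI : Module (MvPolynomial (Fin n) A) M := Module.compHom M g.toRingHom
  haveI : IsScalarTower (MvPolynomial (Fin n) A) B M := IsScalarTower.of_algebraMap_smul fun _ _ => rfl
  haveI : IsScalarTower A (MvPolynomial (Fin n) A) M := IsScalarTower.of_algebraMap_smul fun a m => by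
    show g (algebraMap A _ a) • m = a • m
    rw [AlgHom.commutes, IsScalarTower.algebraMap_smul]
  haveI : Algebra.Etale (MvPolynomial (Fin n) A) B := hg
  exact fd_of_etale M (PerfModLib.fd_mvPolynomial A n d M h)

section Loc

variable {B : Type u} [CommRing B]

theorem exact_lTensor_lTensor_iff (T M : Type u) [AddCommGroup T] [Module B T] [AddCommGroup M] [Module B M]
    {X Y Z : Type u} [AddCommGroup X] [Module B X] [AddCommGroup Y] [Module B Y] [AddCommGroup Z] [Module B Z]
    (f : X →ₗ[B] Y) (g : Y →ₗ[B] Z) :
    Function.Exact ((f.lTensor M).lTensor T) ((g.lTensor M).lTensor T) ↔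
      Function.Exact (f.lTensor (T ⊗[B] M)) (g.lTensor (T ⊗[B] M)) := by
  rw [LinearMap.lTensor_tensor, LinearMap.lTensor_tensor]
  exact (Function.Exact.iff_of_ladder_linearEquiv (e₁ := TensorProduct.assoc B T M X)
    (e₂ := TensorProduct.assoc B T M Y) (e₃ := TensorProduct.assoc B T M Z)
    (g₁₂ := (f.lTensor M).lTensor T) (g₂₃ := (g.lTensor M).lTensor T)
    (by ext x; simp) (by ext x; simp))

/-- Flat dimension is local on a ring. -/
theorem fd_of_span (s : Set B) (hs : Ideal.span s = ⊤) (M : Type u) [AddCommGroup M] [Module B M] (n : ℕ)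
    (h : ∀ r ∈ s, DiagLib.FD (Localization.Away r) n (Localization.Away r ⊗[B] M)) : DiagLib.FD B n M := by
  refine DiagLib.FD_of_exactAtSucc n fun N Q p hp => ?_
  refine exact_of_localized_span s hs _ _ fun r => ?_
  let T := Localization.Away r.1
  haveI : Module.Flat B T := IsLocalization.flat T (Submonoid.powers r.1)
  have h1 : DiagLib.FD B (0 + n) (T ⊗[B] M) :=
    PerfModLib.fd_trans (A := B) (B := T) (d := 0) (show Module.Flat B T from inferInstance) n _ (h r.1 r.2)
  have h2 := (exact_lTensor_lTensor_iff T M (Q.complex.d (p + 2) (p + 1)).hom (Q.complex.d (p + 1) p).hom).2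
    (DiagLib.exactAtSucc_of_FD (0 + n) h1 N Q p (by omega))
  refine (Function.Exact.iff_of_ladder_linearEquiv
    (e₁ := (LocalizedModule.equivTensorProduct (Submonoid.powers r.1) _).restrictScalars B)
    (e₂ := (LocalizedModule.equivTensorProduct (Submonoid.powers r.1) _).restrictScalars B)
    (e₃ := (LocalizedModule.equivTensorProduct (Submonoid.powers r.1) _).restrictScalars B)
    (g₁₂ := ((Q.complex.d (p + 2) (p + 1)).hom.lTensor M).lTensor T)
    (g₂₃ := ((Q.complex.d (p + 1) p).hom.lTensor M).lTensor T)
    (f₁₂ := (LocalizedModule.map (Submonoid.powers r.1) ((Q.complex.d (p + 2) (p + 1)).hom.lTensor M)).restrictScalars B)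
    (f₂₃ := (LocalizedModule.map (Submonoid.powers r.1) ((Q.complex.d (p + 1) p).hom.lTensor M)).restrictScalars B)
    ?_ ?_).1 h2
  all_goals
    refine LinearMap.ext fun x => ?_
    induction x using LocalizedModule.induction_on with
    | h m s => simp [LocalizedModule.map_mk, LocalizedModule.equivTensorProduct_apply_mk, T]

end Loc

variable {A B : Type u} [CommRing A] [CommRing B] [Algebra A B]

/-- Tensoring with a flat module keeps the flat dimension over the base. -/
theorem fd_tensor (T : Type u) [AddCommGroup T] [Module B T] [Module.Flat B T] (M : Type u) [AddCommGroup M]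
    [Module B M] [Module A M] [IsScalarTower A B M] [Module A T] [IsScalarTower A B T] {d : ℕ}
    (h : DiagLib.FD A d M) : DiagLib.FD A d (T ⊗[B] M) := by
  refine DiagLib.FD_of_exactAtSucc d fun N Q p hp => ?_
  let d1 := TensorProduct.AlgebraTensorModule.map (LinearMap.id : M →ₗ[B] M) (Q.complex.d (p + 2) (p + 1)).hom
  let d0 := TensorProduct.AlgebraTensorModule.map (LinearMap.id : M →ₗ[B] M) (Q.complex.d (p + 1) p).hom
  have h2 : Function.Exact (d1.lTensor T) (d0.lTensor T) :=
    Module.Flat.lTensor_exact T (R := B) (f := d1) (g := d0) (DiagLib.exactAtSucc_of_FD d h N Q p hp)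
  let e : ∀ (X : Type u) [AddCommGroup X] [Module A X], (T ⊗[B] M) ⊗[A] X ≃ₗ[B] T ⊗[B] (M ⊗[A] X) :=
    fun X _ _ => TensorProduct.AlgebraTensorModule.assoc A B B T M X
  refine (Function.Exact.iff_of_ladder_addEquiv
    (e₁ := (e _).toAddEquiv) (e₂ := (e _).toAddEquiv) (e₃ := (e _).toAddEquiv)
    (f₁₂ := ((Q.complex.d (p + 2) (p + 1)).hom.lTensor (T ⊗[B] M)).toAddMonoidHom)
    (f₂₃ := ((Q.complex.d (p + 1) p).hom.lTensor (T ⊗[B] M)).toAddMonoidHom)
    (g₁₂ := (d1.lTensor T).toAddMonoidHom) (g₂₃ := (d0.lTensor T).toAddMonoidHom) ?_ ?_).1 h2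
  all_goals
    ext x
    induction x using TensorProduct.induction_on with
    | zero => simp
    | add x y hx hy => simp_all
    | tmul z y =>
      induction z using TensorProduct.induction_on with
      | zero => simp
      | add x y hx hy => simp_all [TensorProduct.add_tmul]
      | tmul t m => simp [e, d1, d0]

/-- Modules over a smooth algebra of relative dimension `n`. -/
theorem fd_smooth [Algebra.Smooth A B] (n : ℕ) (hn : ∀ p : PrimeSpectrum B, Module.rankAtStalk (Ω[B⁄A]) p = n)
    (M : Type u) [AddCommGroup M] [Module A M] [Module B M] [IsScalarTower A B M] {d : ℕ}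
    (h : DiagLib.FD A d M) : DiagLib.FD B (d + n) M := by
  obtain ⟨s, hs, hstd⟩ := Algebra.Smooth.exists_span_eq_top_isStandardSmooth A B
  refine fd_of_span s hs M (d + n) fun r hr => ?_
  haveI := hstd r hr
  let T := Localization.Away r
  rcases subsingleton_or_nontrivial T with hT | hT
  · haveI : Subsingleton (T ⊗[B] M) := Module.subsingleton T _
    exact fd_mono (Nat.zero_le _) (show Module.Flat T (T ⊗[B] M) from inferInstance)
  haveI : Algebra.FormallyEtale B T := Algebra.FormallyEtale.of_isLocalization (Submonoid.powers r)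
  have hrank : Module.rank T Ω[T⁄A] = n := by
    obtain ⟨P⟩ := (inferInstance : Nonempty (PrimeSpectrum T))
    have h1 : Module.rankAtStalk (R := T) Ω[T⁄A] P = n := by
      rw [← congrFun (Module.rankAtStalk_eq_of_equiv (KaehlerDifferential.tensorKaehlerEquivOfFormallyEtale A B T)) P,
        Module.rankAtStalk_baseChange, hn]
    rw [congrFun (Module.rankAtStalk_eq_finrank_of_free (R := T) (M := Ω[T⁄A])) P] at h1
    rw [← Module.finrank_eq_rank, ← h1]
    simp
  haveI : Algebra.IsStandardSmoothOfRelativeDimension n A T :=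
    (Algebra.IsStandardSmoothOfRelativeDimension.iff_of_isStandardSmooth n).2 hrank
  haveI : Module.Flat B T := IsLocalization.flat T (Submonoid.powers r)
  exact fd_standardSmooth A T n (T ⊗[B] M) (fd_tensor T M h)

end TorHyperLib
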